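import Groth.Agent.S2663
import Groth.Agent.FlatDepth.Fibres
import Groth.Agent.AssLib.Basic

/-!
# Hartshorne's connectedness theorem for schemes
-/

set_option autoImplicit false
set_option linter.style.haveILetI false
set_option backward.isDefEq.respectTransparency false

universe u

open CategoryTheory hiding ConnectedComponents
open AlgebraicGeometry TopologicalSpace Groth.Agent.AssLib

namespace Groth.Agent.HartConnLib

variable {X : Scheme.{u}} [IsLocallyNoetherian X] (U : X.Opens)

variable {U} in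
/-- Every point has a generization which is generic and hence outside the depth two locus. -/
theorem exists_generic_mem (h : ∀ x : X, x ∉ (U : Set X) → (2 : ℕ∞) ≤ LocCoh.depth (X.presheaf.stalk x) (X.presheaf.stalk x))
    {W : X.Opens} (hW : IsAffineOpen W) (P : Ideal Γ(X, W)) (hP : P ∈ minimalPrimes Γ(X, W)) :
    pt hW ⟨P, hP.1.1⟩ ∈ U := by
  by_contra hU
  haveI : IsNoetherianRing Γ(X, W) := IsLocallyNoetherian.component_noetherian ⟨W, hW⟩
  let q : PrimeSpectrum Γ(X, W) := ⟨P, hP.1.1⟩
  let x := pt hW q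
  have hx : x ∈ W := pt_mem hW q
  letI : Algebra Γ(X, W) (X.presheaf.stalk x) := TopCat.Presheaf.algebra_section_stalk X.presheaf ⟨x, hx⟩
  haveI := hW.isLocalization_stalk ⟨x, hx⟩
  refine (FlatSecLib.two_le_depth_notMem_associatedPrimes (h x hU)).1 ?_
  refine Module.associatedPrimes.minimalPrimes_annihilator_subset_associatedPrimes (X.presheaf.stalk x) (X.presheaf.stalk x) ?_
  rw [Module.annihilator_eq_bot.2 inferInstance]
  refine ⟨⟨inferInstance, bot_le⟩, fun Q hQ _ => ?_⟩
  haveI := hQ.1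
  have h1 : Q.comap (algebraMap Γ(X, W) (X.presheaf.stalk x)) ≤ P := by
    refine (Ideal.comap_mono (IsLocalRing.le_maximalIdeal hQ.1.ne_top)).trans (le_of_eq ?_)
    exact (IsLocalization.AtPrime.comap_maximalIdeal _ (hW.primeIdealOf ⟨x, hx⟩).asIdeal).trans (pr_pt hW q)
  have h2 := hP.2 ⟨Ideal.IsPrime.comap _, bot_le⟩ h1
  rw [← IsLocalization.AtPrime.map_eq_maximalIdeal (hW.primeIdealOf ⟨x, hx⟩).asIdeal (X.presheaf.stalk x),
    Ideal.map_le_iff_le_comap, primeIdealOf_pt]
  exact h2

variable {U} in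
theorem exists_generization_mem (h : ∀ x : X, x ∉ (U : Set X) → (2 : ℕ∞) ≤ LocCoh.depth (X.presheaf.stalk x) (X.presheaf.stalk x))
    (x : X) : ∃ z, z ⤳ x ∧ z ∈ U := by
  obtain ⟨W, hW, hx, -⟩ := exists_isAffineOpen_mem_and_subset (X := X) (x := x) (U := ⊤) trivial
  obtain ⟨P, hP, hle⟩ := Ideal.exists_minimalPrimes_le (bot_le : (⊥ : Ideal Γ(X, W)) ≤ pr hW hx)
  exact ⟨pt hW ⟨P, hP.1.1⟩, (specializes_iff hW hx (pt_mem hW _)).2 (by rw [pr_pt]; exact hle),
    exists_generic_mem h hW P hP⟩

variable {U} in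
/-- The generizations of a point inside the open form a connected set. -/
theorem mk_eq_of_specializes (h : ∀ x : X, x ∉ (U : Set X) → (2 : ℕ∞) ≤ LocCoh.depth (X.presheaf.stalk x) (X.presheaf.stalk x))
    (x : X) (a b : U) (ha : a.1 ⤳ x) (hb : b.1 ⤳ x) :
    (ConnectedComponents.mk a : ConnectedComponents U) = ConnectedComponents.mk b := by
  obtain ⟨W, hW, hx, -⟩ := exists_isAffineOpen_mem_and_subset (X := X) (x := x) (U := ⊤) trivial
  haveI : IsNoetherianRing Γ(X, W) := IsLocallyNoetherian.component_noetherian ⟨W, hW⟩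
  let q := pr hW hx
  let A := Localization.AtPrime q
  haveI : IsNoetherianRing A := IsLocalization.isNoetherianRing q.primeCompl A inferInstance
  let φ : PrimeSpectrum A → X := fun P => pt hW (PrimeSpectrum.comap (algebraMap Γ(X, W) A) P)
  have hφ : Continuous φ := hW.fromSpec.continuous.comp (PrimeSpectrum.continuous_comap _)
  obtain ⟨I, hI⟩ := (PrimeSpectrum.isClosed_iff_zeroLocus_ideal _).1 ((U.isOpen.isClosed_compl).preimage hφ)
  haveI : ConnectedSpace (PrimeSpectrum A) := connectedSpace_iff_clopen.2 ⟨⟨IsLocalRing.closedPoint A⟩, fun s hs => by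
    by_cases hm : IsLocalRing.closedPoint A ∈ s
    · exact Or.inr (Set.eq_univ_of_forall fun y => Specializes.mem_open
        ((PrimeSpectrum.le_iff_specializes y _).1 (IsLocalRing.le_maximalIdeal y.2.ne_top)) hs.2 hm)
    · refine Or.inl (Set.eq_empty_iff_forall_notMem.2 fun y hy => hm ?_)
      exact Specializes.mem_closed ((PrimeSpectrum.le_iff_specializes y _).1 (IsLocalRing.le_maximalIdeal y.2.ne_top)) hs.1 hy⟩
  have hconn := S2663.result A I fun P _ hIP => by
    let P' : PrimeSpectrum A := ⟨P, inferInstance⟩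
    have hmem : φ P' ∉ (U : Set X) := by
      have : P' ∈ φ ⁻¹' (U : Set X)ᶜ := by rw [hI]; exact hIP
      exact this
    have hd := h _ hmem
    let p := P.comap (algebraMap Γ(X, W) A)
    let r := pt_mem hW (PrimeSpectrum.comap (algebraMap Γ(X, W) A) P')
    letI : Algebra Γ(X, W) (X.presheaf.stalk (φ P')) := TopCat.Presheaf.algebra_section_stalk X.presheaf ⟨φ P', r⟩
    haveI : IsLocalization.AtPrime (X.presheaf.stalk (φ P')) p := by
      have h1 := hW.isLocalization_stalk ⟨φ P', r⟩
      have key : ∀ (J : Ideal Γ(X, W)) (_ : J.IsPrime), J = p →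
          IsLocalization.AtPrime (X.presheaf.stalk (φ P')) J → IsLocalization.AtPrime (X.presheaf.stalk (φ P')) p := by
        rintro _ _ rfl hh
        exact hh
      exact key _ inferInstance (pr_pt hW _) h1
    haveI : IsLocalization.AtPrime (Localization.AtPrime P) p :=
      IsLocalization.isLocalization_isLocalization_atPrime_isLocalization q.primeCompl (Localization.AtPrime P) P
    haveI : IsNoetherianRing (Localization.AtPrime P) := IsLocalization.isNoetherianRing P.primeCompl _ inferInstance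
    rwa [← FlatDepth.depth_eq_of_ringEquiv
      (IsLocalization.algEquiv p.primeCompl (Localization.AtPrime P) (X.presheaf.stalk (φ P'))).symm.toRingEquiv] at hd
  have hlift : ∀ z : U, z.1 ⤳ x → ∃ P ∈ (PrimeSpectrum.zeroLocus (I : Set A))ᶜ, φ P = z.1 := by
    intro z hz
    have hzW : z.1 ∈ W := mem_of_specializes hz hx
    obtain ⟨P, hP⟩ : hW.primeIdealOf ⟨z.1, hzW⟩ ∈ Set.range (PrimeSpectrum.comap (algebraMap Γ(X, W) A)) := by
      rw [PrimeSpectrum.localization_comap_range A q.primeCompl]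
      exact Set.disjoint_left.2 fun r hr hr' => hr ((specializes_iff hW hx hzW).1 hz hr')
    have hP' : φ P = z.1 := by simp only [φ, hP]; exact pt_primeIdealOf hW hzW
    refine ⟨P, fun hPI => ?_, hP'⟩
    have : P ∈ φ ⁻¹' (U : Set X)ᶜ := by rw [hI]; exact hPI
    exact this (hP'.symm ▸ z.2)
  obtain ⟨P, hP, hPa⟩ := hlift a ha
  obtain ⟨Q, hQ, hQb⟩ := hlift b hb
  let ψ : ((PrimeSpectrum.zeroLocus (I : Set A))ᶜ : Set (PrimeSpectrum A)) → U := fun R => ⟨φ R.1, by
    by_contra hU
    exact R.2 ((Set.ext_iff.1 hI R.1).1 hU)⟩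
  have hψ : Continuous ψ := (hφ.comp continuous_subtype_val).subtype_mk _
  haveI := isPreconnected_iff_preconnectedSpace.1 hconn
  have himg : _root_.IsPreconnected (Set.range ψ) := isPreconnected_range hψ
  rw [ConnectedComponents.coe_eq_coe']
  exact himg.subset_connectedComponent ⟨⟨Q, hQ⟩, Subtype.ext hQb⟩ ⟨⟨P, hP⟩, Subtype.ext hPa⟩

/-- Hartshorne: removing a closed set of depth at least two does not change the connected components. -/
theorem bijective (h : ∀ x : X, x ∉ (U : Set X) → (2 : ℕ∞) ≤ LocCoh.depth (X.presheaf.stalk x) (X.presheaf.stalk x)) :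
    Function.Bijective (Continuous.connectedComponentsMap (continuous_subtype_val : Continuous (fun x : U => (x : X)))) := by
  choose gen hgen hgenU using exists_generization_mem h
  let φ : X → ConnectedComponents U := fun x => ConnectedComponents.mk ⟨gen x, hgenU x⟩
  have hmono : ∀ {y x : X}, y ⤳ x → φ y = φ x := fun {y x} hyx =>
    mk_eq_of_specializes h x ⟨gen y, hgenU y⟩ ⟨gen x, hgenU x⟩ ((hgen y).trans hyx) (hgen x)
  have hlc : IsLocallyConstant φ := by
    refine IsLocallyConstant.iff_isOpen_fiber.2 fun c => isOpen_iff_forall_mem_open.2 fun x hx => ?_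
    obtain ⟨W, hW, hxW, -⟩ := exists_isAffineOpen_mem_and_subset (X := X) (x := x) (U := ⊤) trivial
    haveI : IsNoetherianRing Γ(X, W) := IsLocallyNoetherian.component_noetherian ⟨W, hW⟩
    let B : Set (PrimeSpectrum Γ(X, W)) := ⋃ P ∈ {P : PrimeSpectrum Γ(X, W) | P.asIdeal ∈ minimalPrimes Γ(X, W) ∧ φ (pt hW P) ≠ c},
      PrimeSpectrum.zeroLocus (P.asIdeal : Set Γ(X, W))
    have hB : IsClosed B := by
      refine Set.Finite.isClosed_biUnion ?_ fun P _ => PrimeSpectrum.isClosed_zeroLocus _
      exact Set.Finite.of_finite_image ((minimalPrimes.finite_of_isNoetherianRing Γ(X, W)).subset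
        (by rintro _ ⟨P, hP, rfl⟩; exact hP.1)) (fun a _ b _ hab => PrimeSpectrum.ext hab)
    refine ⟨hW.fromSpec '' Bᶜ, ?_, hW.fromSpec.isOpenEmbedding.isOpenMap _ hB.isOpen_compl,
      ⟨hW.primeIdealOf ⟨x, hxW⟩, ?_, hW.fromSpec_primeIdealOf _⟩⟩
    · rintro _ ⟨Q, hQ, rfl⟩
      obtain ⟨P, hP, hle⟩ := Ideal.exists_minimalPrimes_le (bot_le : (⊥ : Ideal Γ(X, W)) ≤ Q.asIdeal)
      have h1 : φ (pt hW ⟨P, hP.1.1⟩) = φ (pt hW Q) := hmono ((specializes_iff hW (pt_mem hW Q) (pt_mem hW _)).2 (by
        rw [pr_pt, pr_pt]; exact hle))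
      show φ (pt hW Q) = c
      by_contra hne
      exact hQ (Set.mem_biUnion (x := (⟨P, hP.1.1⟩ : PrimeSpectrum Γ(X, W))) ⟨hP, fun he => hne (h1.symm.trans he)⟩ hle)
    · intro hmem
      simp only [B, Set.mem_iUnion₂] at hmem
      obtain ⟨P, ⟨-, hne⟩, hle⟩ := hmem
      exact hne ((hmono ((specializes_iff hW hxW (pt_mem hW P)).2 (by rw [pr_pt]; exact hle))).trans hx)
  have hφU : ∀ a : U, φ a.1 = ConnectedComponents.mk a := fun a =>
    mk_eq_of_specializes h a.1 ⟨gen a.1, hgenU a.1⟩ a (hgen a.1) specializes_rfl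
  constructor
  · intro a b hab
    obtain ⟨a, rfl⟩ := ConnectedComponents.surjective_coe a
    obtain ⟨b, rfl⟩ := ConnectedComponents.surjective_coe b
    rw [Continuous.connectedComponentsMap_mk, Continuous.connectedComponentsMap_mk, ConnectedComponents.coe_eq_coe'] at hab
    have := hlc.apply_eq_of_isPreconnected isPreconnected_connectedComponent hab mem_connectedComponent
    rw [hφU, hφU] at this
    exact this
  · intro c
    obtain ⟨x, rfl⟩ := ConnectedComponents.surjective_coe c
    refine ⟨ConnectedComponents.mk ⟨gen x, hgenU x⟩, ?_⟩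
    rw [Continuous.connectedComponentsMap_mk, eq_comm, ConnectedComponents.coe_eq_coe']
    exact (hgen x).mem_closed isClosed_connectedComponent mem_connectedComponent

end Groth.Agent.HartConnLib
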